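import Groth.Agent.Lib.Helper6.IndCof.Elem

set_option linter.unusedSectionVars false
set_option linter.unusedVariables false
set_option linter.unusedSimpArgs false
set_option autoImplicit false
set_option linter.style.haveILetI false
set_option maxHeartbeats 400000

/-!
# Abstract theory of objects of cofinite type
-/

noncomputable section

namespace Groth.Agent.Helper6.IndCof

open CategoryTheory Limits

universe v u

variable {𝒜 : Type u} [Category.{v} 𝒜] [Abelian 𝒜]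

/-- Axioms on a class `P` of "small" objects in an abelian category. -/
structure Ax (P : ObjectProperty 𝒜) : Prop where
  iso : ∀ {X Y : 𝒜}, (X ≅ Y) → P X → P Y
  ker : ∀ {X Y : 𝒜} (f : X ⟶ Y), P X → P Y → P (kernel f)
  coker : ∀ {X Y : 𝒜} (f : X ⟶ Y), P X → P Y → P (cokernel f)
  sep : ∀ {A Z : 𝒜} (f : A ⟶ Z), (∀ (X : 𝒜) (a : X ⟶ A), P X → a ≫ f = 0) → f = 0
  dcc : ∀ (A : 𝒜) (s : Set (Subobject A)), s.Nonempty → (∀ T ∈ s, P (T : 𝒜)) →
      ∃ T ∈ s, ∀ T' ∈ s, T' ≤ T → T' = T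
  tor : ∀ X, P X → ∃ k : ℕ, 0 < k ∧ k • 𝟙 X = 0

variable {P : ObjectProperty 𝒜}

/-- `A` is `n`-cofinite: all `n`-power torsion kernels lie in `P`. -/
def Cof (P : ObjectProperty 𝒜) (n : ℕ) (A : 𝒜) : Prop := ∀ m, P (tors (n ^ m) A)

lemma Cof.pow {n : ℕ} {A : 𝒜} (h : Cof P n A) (e : ℕ) : Cof P (n ^ e) A := fun m => by
  rw [← pow_mul]; exact h _

lemma Cof.of_iso (hax : Ax P) {n : ℕ} {A B : 𝒜} (e : A ≅ B) (h : Cof P n A) : Cof P n B :=
  fun m => hax.iso (torsIso e _) (h m)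

lemma Cof.of_P (hax : Ax P) {n : ℕ} {X : 𝒜} (h : P X) : Cof P n X := fun m => hax.ker _ h h

lemma Cof.one {n : ℕ} {A : 𝒜} (h : Cof P n A) : P (tors n A) := by
  have := h 1; rwa [pow_one] at this

lemma P_of_exact (hax : Ax P) {X₁ X₂ Z : 𝒜} (f : X₁ ⟶ X₂) (g : X₂ ⟶ Z) (w : f ≫ g = 0) [Epi g]
    (hex : (ShortComplex.mk f g w).Exact) (h1 : P X₁) (h2 : P X₂) : P Z := by
  haveI : Epi (ShortComplex.mk f g w).g := ‹Epi g›
  exact hax.iso (IsColimit.coconePointUniqueUpToIso (cokernelIsCokernel f) hex.gIsCokernel)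
    (hax.coker f h1 h2)

lemma P_of_exact_mono (hax : Ax P) {Z X₁ X₂ : 𝒜} (f : Z ⟶ X₁) (g : X₁ ⟶ X₂) (w : f ≫ g = 0)
    [Mono f] (hex : (ShortComplex.mk f g w).Exact) (h1 : P X₁) (h2 : P X₂) : P Z := by
  haveI : Mono (ShortComplex.mk f g w).f := ‹Mono f›
  exact hax.iso (IsLimit.conePointUniqueUpToIso (kernelIsKernel g) hex.fIsKernel)
    (hax.ker g h1 h2)

lemma P_imageSubobject (hax : Ax P) {X Y A : 𝒜} (φ : X ⟶ Y) (m : Y ⟶ A) [Mono m] (hX : P X)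
    (hY : P Y) : P ((imageSubobject (φ ≫ m) : Subobject A) : 𝒜) := by
  have h1 : imageSubobject (φ ≫ m) = Subobject.mk (Abelian.image.ι φ ≫ m) := by
    rw [← imageSubobject_mono]
    apply le_antisymm
    · rw [imageSubobject_le_iff]
      have : φ ≫ m = Abelian.factorThruImage φ ≫ (Abelian.image.ι φ ≫ m) := by simp
      rw [this]; exact inIm_comp_self _ _
    · rw [imageSubobject_le_iff, inIm_iff]
      exact ⟨_, Abelian.factorThruImage φ, inferInstance, 𝟙 _, by simp⟩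
  rw [h1]
  exact hax.iso (Subobject.underlyingIso _).symm (hax.ker _ hY (hax.coker _ hX hY))

/-! ### The J-chain -/

/-- `n^k : B[n^(k+1)] → A` (through `j`). -/
def Jmap (n k : ℕ) {B A : 𝒜} (j : B ⟶ A) : tors (n ^ (k + 1)) B ⟶ A :=
  (n ^ k) • (torsι (n ^ (k + 1)) B ≫ j)

lemma Jmap_succ (n k : ℕ) {B A : 𝒜} (j : B ⟶ A) : InIm (Jmap n k j) (Jmap n (k + 1) j) := by
  have h0 : (n ^ (k + 1)) • (n • torsι (n ^ (k + 1 + 1)) B) = 0 := by
    rw [← mul_smul, ← pow_succ, smul_torsι]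
  have : Jmap n (k + 1) j = torsLift (n ^ (k + 1)) (n • torsι (n ^ (k + 1 + 1)) B) h0 ≫
      Jmap n k j := by
    simp only [Jmap, Preadditive.comp_nsmul, torsLift_ι_assoc, Preadditive.nsmul_comp]
    rw [← mul_smul, ← pow_succ]
  rw [this]; exact inIm_comp_self _ _

lemma Jmap_le (n : ℕ) {B A : 𝒜} (j : B ⟶ A) {k k' : ℕ} (h : k ≤ k') :
    InIm (Jmap n k j) (Jmap n k' j) := by
  induction k', h using Nat.le_induction with
  | base => exact inIm_self _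
  | succ k' hk ih => exact InIm.trans ih (Jmap_succ n k' j)

lemma Jmap_comp (n k : ℕ) {B B' A : 𝒜} (h : B ⟶ B') (j' : B' ⟶ A) :
    InIm (Jmap n k j') (Jmap n k (h ≫ j')) := by
  have h0 : (n ^ (k + 1)) • (torsι (n ^ (k + 1)) B ≫ h) = 0 := by
    rw [← Preadditive.nsmul_comp, smul_torsι, zero_comp]
  have : Jmap n k (h ≫ j') = torsLift (n ^ (k + 1)) (torsι (n ^ (k + 1)) B ≫ h) h0 ≫
      Jmap n k j' := by
    simp only [Jmap, Preadditive.comp_nsmul, torsLift_ι_assoc, Category.assoc]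
  rw [this]; exact inIm_comp_self _ _

lemma P_imageSubobject_Jmap (hax : Ax P) (n k : ℕ) {B A : 𝒜} (j : B ⟶ A) [Mono j]
    (h1 : P (tors (n ^ (k + 1)) B)) (h0 : P (tors (n ^ (0 + 1)) B)) :
    P ((imageSubobject (Jmap n k j) : Subobject A) : 𝒜) := by
  have e0 : (n ^ (0 + 1)) • ((n ^ k) • torsι (n ^ (k + 1)) B) = 0 := by
    rw [← mul_smul]
    have : n ^ (0 + 1) * n ^ k = n ^ (k + 1) := by ring
    rw [this, smul_torsι]
  have : Jmap n k j = torsLift (n ^ (0 + 1)) ((n ^ k) • torsι (n ^ (k + 1)) B) e0 ≫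
      (torsι (n ^ (0 + 1)) B ≫ j) := by
    simp only [Jmap, torsLift_ι_assoc, Preadditive.nsmul_comp]
  rw [this]
  exact P_imageSubobject hax _ _ h1 h0

lemma exists_J_stab (hax : Ax P) (n : ℕ) {B A : 𝒜} (j : B ⟶ A) [Mono j] (hB : Cof P n B) :
    ∃ M, ∀ k, M ≤ k → InIm (Jmap n k j) (Jmap n M j) := by
  obtain ⟨T, ⟨M, rfl⟩, hT⟩ := hax.dcc A (Set.range fun k => imageSubobject (Jmap n k j))
    ⟨_, ⟨0, rfl⟩⟩
    (by rintro _ ⟨k, rfl⟩; exact P_imageSubobject_Jmap hax n k j (hB _) (hB _))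
  refine ⟨M, fun k hk => ?_⟩
  have h1 : imageSubobject (Jmap n k j) ≤ imageSubobject (Jmap n M j) :=
    (imageSubobject_le_iff _ _).2 (Jmap_le n j hk)
  have h2 := hT _ ⟨k, rfl⟩ h1
  exact (imageSubobject_le_iff _ _).1 h2.ge

/-! ### Stabilization of the images `n^m A` -/

lemma stab_core (n : ℕ) (A : 𝒜) (M : ℕ)
    (hM : ∀ k, M ≤ k → InIm (Jmap n k (𝟙 A)) (Jmap n M (𝟙 A))) (m : ℕ) (hm : M ≤ m) :
    ∀ (j : ℕ) {T : 𝒜} (a : T ⟶ A), (n ^ (m + j)) • a = 0 →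
      InIm ((n ^ (m + 1)) • 𝟙 A) ((n ^ m) • a) := by
  intro j
  induction j with
  | zero =>
    intro T a h
    rw [Nat.add_zero] at h; rw [h]; exact InIm.zero _
  | succ j ih =>
    intro T a h
    have h1 : InIm (Jmap n (m + j) (𝟙 A)) ((n ^ (m + j)) • a) := by
      have : (n ^ (m + j)) • a = torsLift (n ^ (m + j + 1)) a h ≫ Jmap n (m + j) (𝟙 A) := by
        simp [Jmap, Preadditive.comp_nsmul]
      rw [this]; exact inIm_comp_self _ _
    have h2 : InIm (Jmap n (m + j + 1) (𝟙 A)) ((n ^ (m + j)) • a) :=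
      InIm.trans (InIm.trans (hM (m + j + 1) (by omega)) (Jmap_le n (𝟙 A) (by omega))) h1
    obtain ⟨T', π, hπ, y, hy⟩ := (inIm_iff _ _).1 h2
    have hy' : (n ^ (m + j)) • (π ≫ a) =
        (n ^ (m + j + 1)) • (y ≫ torsι (n ^ (m + j + 1 + 1)) A) := by
      simpa [Jmap, Preadditive.comp_nsmul] using hy
    have hc : (n ^ (m + j)) • (π ≫ a - n • (y ≫ torsι (n ^ (m + j + 1 + 1)) A)) = 0 := by
      rw [smul_sub, hy', ← mul_smul, ← pow_succ, sub_self]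
    have h3 := ih (π ≫ a - n • (y ≫ torsι (n ^ (m + j + 1 + 1)) A)) hc
    apply InIm.of_epi π
    have : π ≫ ((n ^ m) • a) = (n ^ m) • (π ≫ a - n • (y ≫ torsι (n ^ (m + j + 1 + 1)) A)) +
        (y ≫ torsι (n ^ (m + j + 1 + 1)) A) ≫ ((n ^ (m + 1)) • 𝟙 A) := by
      simp only [Preadditive.comp_nsmul, smul_sub, Category.comp_id]
      rw [← mul_smul, ← pow_succ]; abel
    rw [this]
    exact h3.add (inIm_comp_self _ _)

theorem exists_stab (hax : Ax P) (n : ℕ) (A : 𝒜) (hA : Cof P n A) :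
    ∃ N, ∀ m, N ≤ m → InIm ((n ^ (m + 1)) • 𝟙 A) ((n ^ m) • 𝟙 A) := by
  obtain ⟨M, hM⟩ := exists_J_stab hax n (𝟙 A) hA
  refine ⟨M, fun m hm => ?_⟩
  apply hax.sep
  intro X a hX
  obtain ⟨k, hk, hk0⟩ := hax.tor X hX
  obtain ⟨j, u, hju⟩ := exists_pow_mul_dvd k n hk
  have hka : k • a = 0 := by
    have : k • a = (k • 𝟙 X) ≫ a := by simp
    rw [this, hk0, zero_comp]
  have h0 := zsmul_eq_zero_of_dvd a k hka _ hju
  have hc : (n ^ (m + j)) • (a - n • (u • a)) = 0 := by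
    have : (n ^ (m + j)) • (a - n • (u • a)) =
        ((n : ℤ) ^ m) • (((n : ℤ) ^ j * (1 - u * n)) • a) := by
      rw [← natCast_zsmul (a - n • (u • a)) (n ^ (m + j)), ← natCast_zsmul (u • a) n]
      push_cast
      module
    rw [this, h0, smul_zero]
  have h3 := stab_core n A M hM m hm j (a - n • (u • a)) hc
  have : a ≫ ((n ^ m) • 𝟙 A) = (n ^ m) • (a - n • (u • a)) + (u • a) ≫ ((n ^ (m + 1)) • 𝟙 A) := by
    simp only [Preadditive.comp_nsmul, smul_sub, Category.comp_id]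
    rw [← mul_smul, ← pow_succ]; abel
  have h4 : InIm ((n ^ (m + 1)) • 𝟙 A) (a ≫ ((n ^ m) • 𝟙 A)) := by
    rw [this]; exact h3.add (inIm_comp_self _ _)
  simpa [InIm] using h4

end Groth.Agent.Helper6.IndCof
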