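import Groth.Agent.Lib.Helper6.IndCof.Abs

set_option linter.unusedSectionVars false
set_option linter.unusedVariables false
set_option linter.unusedSimpArgs false
set_option autoImplicit false
set_option linter.style.haveILetI false
set_option maxHeartbeats 400000

/-!
# Abstract theory of objects of cofinite type, part 2: cokernels and kernels
-/

noncomputable section

namespace Groth.Agent.Helper6.IndCof

open CategoryTheory Limits

universe v u

variable {𝒜 : Type u} [Category.{v} 𝒜] [Abelian 𝒜] {P : ObjectProperty 𝒜}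

lemma smul_comp_cokernel_π {T A : 𝒜} (n : ℕ) (b : T ⟶ A) :
    (n • b) ≫ cokernel.π (n • 𝟙 A) = 0 := by
  have : n • b = b ≫ (n • 𝟙 A) := by simp
  rw [this, Category.assoc, cokernel.condition, comp_zero]

theorem coker_mem_of_stab (hax : Ax P) (n : ℕ) (A : 𝒜) (N : ℕ)
    (hstab : InIm ((n ^ (N + 1)) • 𝟙 A) ((n ^ N) • 𝟙 A))
    (h1 : P (tors (n ^ N) A)) (h2 : P (tors (n ^ (N + 1)) A)) : P (cokernel (n • 𝟙 A)) := by
  have e0 : (n ^ N) • (n • torsι (n ^ (N + 1)) A) = 0 := by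
    rw [← mul_smul, ← pow_succ, smul_torsι]
  let φ : tors (n ^ (N + 1)) A ⟶ tors (n ^ N) A := torsLift (n ^ N) (n • torsι (n ^ (N + 1)) A) e0
  let ψ : tors (n ^ N) A ⟶ cokernel (n • 𝟙 A) := torsι (n ^ N) A ≫ cokernel.π _
  have w : φ ≫ ψ = 0 := by
    simp only [φ, ψ, torsLift_ι_assoc]
    exact smul_comp_cokernel_π _ _
  haveI : Epi ψ := by
    rw [epi_iff_surjective_up_to_refinements]
    intro T z
    obtain ⟨T₁, π₁, hπ₁, a, ha⟩ := surjective_up_to_refinements_of_epi (cokernel.π (n • 𝟙 A)) z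
    have h3 : InIm ((n ^ (N + 1)) • 𝟙 A) ((n ^ N) • a) := by
      have : (n ^ N) • a = a ≫ ((n ^ N) • 𝟙 A) := by simp
      rw [this]; exact hstab.comp a
    obtain ⟨T₂, π₂, hπ₂, b, hb⟩ := (inIm_iff _ _).1 h3
    have hb' : (n ^ N) • (π₂ ≫ a) = (n ^ (N + 1)) • b := by simpa using hb
    have hc : (n ^ N) • (π₂ ≫ a - n • b) = 0 := by
      rw [smul_sub, hb', ← mul_smul, ← pow_succ, sub_self]
    refine ⟨T₂, π₂ ≫ π₁, epi_comp _ _, torsLift (n ^ N) _ hc, ?_⟩
    simp only [ψ, torsLift_ι_assoc, Category.assoc, ha, Preadditive.sub_comp,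
      smul_comp_cokernel_π, sub_zero]
  have hex : (ShortComplex.mk φ ψ w).Exact := by
    rw [ShortComplex.exact_iff_exact_up_to_refinements]
    intro T x hx
    dsimp at x hx
    have h3 : InIm (n • 𝟙 A) (x ≫ torsι (n ^ N) A) := by simpa [InIm, ψ] using hx
    obtain ⟨T₁, π₁, hπ₁, b, hb⟩ := (inIm_iff _ _).1 h3
    have hb' : π₁ ≫ x ≫ torsι (n ^ N) A = n • b := by simpa using hb
    have hb2 : (n ^ (N + 1)) • b = 0 := by
      rw [pow_succ, mul_smul, ← hb', ← Category.assoc, smul_comp_torsι]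
    refine ⟨T₁, π₁, hπ₁, torsLift _ b hb2, ?_⟩
    dsimp
    rw [← cancel_mono (torsι (n ^ N) A)]
    simp [φ, hb', Preadditive.comp_nsmul]
  exact P_of_exact hax φ ψ w hex h2 h1

/-- **Theorem I**: for `A` `n`-cofinite, `A / nA` lies in `P`. -/
theorem coker_mem (hax : Ax P) (n : ℕ) (A : 𝒜) (hA : Cof P n A) : P (cokernel (n • 𝟙 A)) := by
  obtain ⟨N, hN⟩ := exists_stab hax n A hA
  exact coker_mem_of_stab hax n A N (hN N le_rfl) (hA _) (hA _)

/-- The induced map on torsion kernels. -/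
def torsMap {A B : 𝒜} (k : ℕ) (f : A ⟶ B) : tors k A ⟶ tors k B :=
  torsLift k (torsι k A ≫ f) (by rw [← Preadditive.nsmul_comp, smul_torsι, zero_comp])

@[reassoc (attr := simp)]
lemma torsMap_ι {A B : 𝒜} (k : ℕ) (f : A ⟶ B) : torsMap k f ≫ torsι k B = torsι k A ≫ f := by
  simp [torsMap]

/-- `(ker f)[k] ∈ P` when `A[k], B[k] ∈ P`. -/
theorem tors_kernel_mem (hax : Ax P) (k : ℕ) {A B : 𝒜} (f : A ⟶ B) (hA : P (tors k A))
    (hB : P (tors k B)) : P (tors k (kernel f)) := by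
  have w : torsMap k (kernel.ι f) ≫ torsMap k f = 0 := by
    rw [← cancel_mono (torsι k B)]; simp
  haveI : Mono (torsMap k (kernel.ι f)) := by
    have : Mono (torsMap k (kernel.ι f) ≫ torsι k A) := by
      rw [torsMap_ι]; infer_instance
    exact mono_of_mono _ (torsι k A)
  refine P_of_exact_mono hax (torsMap k (kernel.ι f)) (torsMap k f) w ?_ hA hB
  rw [ShortComplex.exact_iff_exact_up_to_refinements]
  intro T x hx
  dsimp at x hx
  have h1 : (x ≫ torsι k A) ≫ f = 0 := by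
    have := hx =≫ torsι k B
    simpa using this
  have h2 : k • kernel.lift f (x ≫ torsι k A) h1 = 0 := by
    rw [← cancel_mono (kernel.ι f)]
    simp [Preadditive.nsmul_comp, smul_comp_torsι]
  refine ⟨T, 𝟙 T, inferInstance, torsLift k _ h2, ?_⟩
  dsimp
  rw [← cancel_mono (torsι k A)]
  simp

end Groth.Agent.Helper6.IndCof
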