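import Groth.Agent.Lib.Helper6.IndCof.Abs2

set_option linter.unusedSectionVars false
set_option linter.unusedVariables false
set_option linter.unusedSimpArgs false
set_option autoImplicit false
set_option linter.style.haveILetI false
set_option maxHeartbeats 800000

/-!
# Abstract theory of objects of cofinite type, part 3: cokernels of monomorphisms
-/

noncomputable section

namespace Groth.Agent.Helper6.IndCof

open CategoryTheory Limits

universe v u

variable {𝒜 : Type u} [Category.{v} 𝒜] [Abelian 𝒜] {P : ObjectProperty 𝒜}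

/-- Multiplication by `n` from `A[n^(N+1)]` to `A[n^N]`. -/
def torsMul (n N : ℕ) (A : 𝒜) : tors (n ^ (N + 1)) A ⟶ tors (n ^ N) A :=
  torsLift (n ^ N) (n • torsι (n ^ (N + 1)) A) (by rw [← mul_smul, ← pow_succ, smul_torsι])

@[reassoc (attr := simp)]
lemma torsMul_ι (n N : ℕ) (A : 𝒜) :
    torsMul n N A ≫ torsι (n ^ N) A = n • torsι (n ^ (N + 1)) A := by
  simp [torsMul]

lemma torsMul_torsMap (n N : ℕ) {K A : 𝒜} (i : K ⟶ A) :
    torsMap (n ^ (N + 1)) i ≫ torsMul n N A = torsMul n N K ≫ torsMap (n ^ N) i := by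
  rw [← cancel_mono (torsι (n ^ N) A)]
  simp [Preadditive.comp_nsmul, Preadditive.nsmul_comp]

theorem tors_coker_mem_of_stab (hax : Ax P) (n : ℕ) {K A : 𝒜} (i : K ⟶ A) [Mono i] (N : ℕ)
    (hstab : InIm ((n ^ (N + 1)) • 𝟙 K) ((n ^ N) • 𝟙 K))
    (hK1 : P (tors (n ^ N) K)) (hK2 : P (tors (n ^ (N + 1)) K))
    (hA1 : P (tors (n ^ N) A)) (hA2 : P (tors (n ^ (N + 1)) A)) :
    P (tors n (cokernel i)) := by
  let q := cokernel.π i
  let iN := torsMap (n ^ N) i
  let ρ := cokernel.π iN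
  have hR : P (cokernel iN) := hax.coker iN hK1 hA1
  let μ := torsMul n N A
  let ι' := kernel.ι (μ ≫ ρ)
  have hE' : P (kernel (μ ≫ ρ)) := hax.ker _ hA2 hR
  -- the comparison `R → Q`
  let d : cokernel iN ⟶ cokernel i :=
    cokernel.desc iN (torsι (n ^ N) A ≫ q) (by simp [iN, q])
  have hd : ρ ≫ d = torsι (n ^ N) A ≫ q := cokernel.π_desc _ _ _
  have hσ : n • (ι' ≫ torsι (n ^ (N + 1)) A ≫ q) = 0 := by
    have : n • (ι' ≫ torsι (n ^ (N + 1)) A ≫ q) = (ι' ≫ μ ≫ ρ) ≫ d := by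
      simp only [Category.assoc, hd, μ]
      rw [torsMul_ι_assoc]
      simp [Preadditive.comp_nsmul, Preadditive.nsmul_comp]
    rw [this, kernel.condition, zero_comp]
  let σ : kernel (μ ≫ ρ) ⟶ tors n (cokernel i) := torsLift n _ hσ
  have hτ : torsMap (n ^ (N + 1)) i ≫ μ ≫ ρ = 0 := by
    simp only [μ, ρ, iN]
    rw [← Category.assoc, torsMul_torsMap, Category.assoc, cokernel.condition, comp_zero]
  let τ : tors (n ^ (N + 1)) K ⟶ kernel (μ ≫ ρ) := kernel.lift _ (torsMap (n ^ (N + 1)) i) hτ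
  have w : τ ≫ σ = 0 := by
    rw [← cancel_mono (torsι n (cokernel i))]
    simp [τ, σ, ι', q]
  haveI : Epi σ := by
    rw [epi_iff_surjective_up_to_refinements]
    intro T z
    obtain ⟨T₁, π₁, hπ₁, a, ha⟩ :=
      surjective_up_to_refinements_of_epi q (z ≫ torsι n (cokernel i))
    have h2 : InIm i (n • a) := by
      show (n • a) ≫ q = 0
      rw [Preadditive.nsmul_comp, ← ha, ← Category.assoc, smul_comp_torsι]
    obtain ⟨T₂, π₂, hπ₂, k, hk⟩ := (inIm_iff _ _).1 h2
    have h3 : InIm ((n ^ (N + 1)) • 𝟙 K) ((n ^ N) • k) := by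
      rw [show (n ^ N) • k = k ≫ ((n ^ N) • 𝟙 K) by simp]; exact hstab.comp k
    obtain ⟨T₃, π₃, hπ₃, k₁, hk₁⟩ := (inIm_iff _ _).1 h3
    have hk₁' : (n ^ N) • (π₃ ≫ k) = (n ^ (N + 1)) • k₁ := by simpa using hk₁
    have hk₂0 : (n ^ N) • (π₃ ≫ k - n • k₁) = 0 := by
      rw [smul_sub, hk₁', ← mul_smul, ← pow_succ, sub_self]
    have ha'n : n • (π₃ ≫ π₂ ≫ a - k₁ ≫ i) = (π₃ ≫ k - n • k₁) ≫ i := by
      have hk' : π₂ ≫ a = π₂ ≫ a := rfl
      rw [smul_sub, Preadditive.sub_comp, Category.assoc, ← hk]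
      simp [Preadditive.comp_nsmul, Preadditive.nsmul_comp]
    have ha'0 : (n ^ (N + 1)) • (π₃ ≫ π₂ ≫ a - k₁ ≫ i) = 0 := by
      rw [pow_succ, mul_smul, ha'n, ← Preadditive.nsmul_comp, hk₂0, zero_comp]
    let e : T₃ ⟶ tors (n ^ (N + 1)) A := torsLift _ _ ha'0
    have he : e ≫ μ ≫ ρ = 0 := by
      have h5 : e ≫ μ = torsLift (n ^ N) _ hk₂0 ≫ iN := by
        rw [← cancel_mono (torsι (n ^ N) A)]
        simp only [Category.assoc, μ, torsMul_ι, iN, torsMap_ι, torsLift_ι_assoc, e]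
        rw [Preadditive.comp_nsmul, torsLift_ι, ha'n]
      rw [← Category.assoc, h5, Category.assoc, cokernel.condition, comp_zero]
    refine ⟨T₃, π₃ ≫ π₂ ≫ π₁, inferInstance, kernel.lift _ e he, ?_⟩
    rw [← cancel_mono (torsι n (cokernel i))]
    simp only [Category.assoc, σ, torsLift_ι, ι', kernel.lift_ι_assoc, e, torsLift_ι_assoc, ha,
      Preadditive.sub_comp, q, cokernel.condition, comp_zero, sub_zero]
  have hex : (ShortComplex.mk τ σ w).Exact := by
    rw [ShortComplex.exact_iff_exact_up_to_refinements]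
    intro T x hx
    dsimp at x hx
    have h1 : InIm i (x ≫ ι' ≫ torsι (n ^ (N + 1)) A) := by
      show (x ≫ ι' ≫ torsι (n ^ (N + 1)) A) ≫ q = 0
      have := hx =≫ torsι n (cokernel i)
      simpa [σ] using this
    obtain ⟨T₁, π₁, hπ₁, k, hk⟩ := (inIm_iff _ _).1 h1
    have hk0 : (n ^ (N + 1)) • k = 0 := by
      rw [← cancel_mono i, Preadditive.nsmul_comp, ← hk, zero_comp]
      rw [← Category.assoc, ← Category.assoc, smul_comp_torsι]
    refine ⟨T₁, π₁, hπ₁, torsLift _ k hk0, ?_⟩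
    dsimp
    rw [← cancel_mono ι', ← cancel_mono (torsι (n ^ (N + 1)) A)]
    simp only [Category.assoc, τ, ι', kernel.lift_ι, torsMap_ι, torsLift_ι_assoc]
    exact hk
  exact P_of_exact hax τ σ w hex hK2 hE'

/-- **Theorem II (mono case)**: the cokernel of a monomorphism between `n`-cofinite objects is
`n`-cofinite. -/
theorem cof_coker_of_mono (hax : Ax P) (n : ℕ) {K A : 𝒜} (i : K ⟶ A) [Mono i]
    (hK : Cof P n K) (hA : Cof P n A) : Cof P n (cokernel i) := by
  intro m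
  obtain ⟨N, hN⟩ := exists_stab hax (n ^ m) K (hK.pow m)
  exact tors_coker_mem_of_stab hax (n ^ m) i N (hN N le_rfl) (hK.pow m _) (hK.pow m _)
    (hA.pow m _) (hA.pow m _)

theorem cof_kernel (hax : Ax P) (n : ℕ) {A B : 𝒜} (f : A ⟶ B)
    (hA : Cof P n A) (hB : Cof P n B) : Cof P n (kernel f) :=
  fun m => tors_kernel_mem hax _ f (hA m) (hB m)

/-- **Theorem II**: the cokernel of a morphism between `n`-cofinite objects is `n`-cofinite. -/
theorem cof_cokernel (hax : Ax P) (n : ℕ) {A B : 𝒜} (f : A ⟶ B)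
    (hA : Cof P n A) (hB : Cof P n B) : Cof P n (cokernel f) := by
  have h1 : Cof P n (Abelian.coimage f) := cof_coker_of_mono hax n (kernel.ι f) (cof_kernel hax n f hA hB) hA
  have h2 : Cof P n (cokernel (Abelian.factorThruCoimage f)) :=
    cof_coker_of_mono hax n _ h1 hB
  have e : cokernel f ≅ cokernel (Abelian.factorThruCoimage f) := by
    have h3 : f = Abelian.coimage.π f ≫ Abelian.factorThruCoimage f := by simp
    exact cokernel.mapIso _ _ (Iso.refl _) (Iso.refl _) (by simp) ≪≫ cokernelEpiComp (Abelian.coimage.π f) (Abelian.factorThruCoimage f)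
  exact Cof.of_iso hax e.symm h2

/-- the image of a morphism between `n`-cofinite objects is `n`-cofinite. -/
theorem cof_coimage (hax : Ax P) (n : ℕ) {A B : 𝒜} (f : A ⟶ B)
    (hA : Cof P n A) (hB : Cof P n B) : Cof P n (Abelian.coimage f) :=
  cof_coker_of_mono hax n (kernel.ι f) (cof_kernel hax n f hA hB) hA

theorem cof_imageSubobject (hax : Ax P) (n : ℕ) {A B : 𝒜} (f : A ⟶ B)
    (hA : Cof P n A) (hB : Cof P n B) : Cof P n ((imageSubobject f : Subobject B) : 𝒜) :=
  Cof.of_iso hax (Abelian.coimageIsoImage' f ≪≫ (imageSubobjectIso f).symm) (cof_coimage hax n f hA hB)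

end Groth.Agent.Helper6.IndCof
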