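import Groth.Agent.Lib.Helper6.IndCof.Abs3

set_option linter.unusedSectionVars false
set_option linter.unusedVariables false
set_option linter.unusedSimpArgs false
set_option autoImplicit false
set_option linter.style.haveILetI false
set_option maxHeartbeats 400000

/-!
# Abstract theory of objects of cofinite type, part 4: image subobjects
-/

noncomputable section

namespace Groth.Agent.Helper6.IndCof

open CategoryTheory Limits

universe v u

variable {𝒜 : Type u} [Category.{v} 𝒜] [Abelian 𝒜] {P : ObjectProperty 𝒜}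

lemma inIm_pow_of_le (n : ℕ) (A : 𝒜) {N m : ℕ} (h : N ≤ m) :
    InIm ((n ^ N) • 𝟙 A) ((n ^ m) • 𝟙 A) := by
  have : (n ^ m) • 𝟙 A = ((n ^ (m - N)) • 𝟙 A) ≫ ((n ^ N) • 𝟙 A) := by
    simp only [Preadditive.comp_nsmul, Preadditive.nsmul_comp, Category.comp_id]
    rw [← mul_smul, ← pow_add]
    congr 2; omega
  rw [this]; exact inIm_comp_self _ _

lemma inIm_pow_of_stab (n : ℕ) (A : 𝒜) (N : ℕ)
    (hN : ∀ m, N ≤ m → InIm ((n ^ (m + 1)) • 𝟙 A) ((n ^ m) • 𝟙 A)) {m : ℕ} (h : N ≤ m) :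
    InIm ((n ^ m) • 𝟙 A) ((n ^ N) • 𝟙 A) := by
  induction m, h using Nat.le_induction with
  | base => exact inIm_self _
  | succ m hm ih => exact InIm.trans (hN m hm) ih

lemma imageSubobject_pow_eq_of_stab (n : ℕ) (A : 𝒜) (N : ℕ)
    (hN : ∀ m, N ≤ m → InIm ((n ^ (m + 1)) • 𝟙 A) ((n ^ m) • 𝟙 A)) {m : ℕ} (h : N ≤ m) :
    imageSubobject ((n ^ m) • 𝟙 A) = imageSubobject ((n ^ N) • 𝟙 A) :=
  (imageSubobject_eq_iff _ _).2 ⟨inIm_pow_of_le n A h, inIm_pow_of_stab n A N hN h⟩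

/-- **Stabilization of images**. -/
theorem exists_imageSubobject_stab (hax : Ax P) (n : ℕ) (A : 𝒜) (hA : Cof P n A) :
    ∃ N, ∀ m, N ≤ m → imageSubobject ((n ^ m) • 𝟙 A) = imageSubobject ((n ^ N) • 𝟙 A) := by
  obtain ⟨N, hN⟩ := exists_stab hax n A hA
  exact ⟨N, fun m hm => imageSubobject_pow_eq_of_stab n A N hN hm⟩

end Groth.Agent.Helper6.IndCof
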