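import Groth.Agent.Lib.Helper6.IndCof.Abs4

set_option linter.unusedSectionVars false
set_option linter.unusedVariables false
set_option linter.unusedSimpArgs false
set_option autoImplicit false
set_option linter.style.haveILetI false
set_option maxHeartbeats 400000

/-!
# Abstract theory of objects of cofinite type, part 5: the Artinian property and divisible parts
-/

noncomputable section

namespace Groth.Agent.Helper6.IndCof

open CategoryTheory Limits

universe v u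

variable {𝒜 : Type u} [Category.{v} 𝒜] [Abelian 𝒜] {P : ObjectProperty 𝒜}

lemma le_of_Jmap_core (n : ℕ) {B B' A : 𝒜} (j : B ⟶ A) (j' : B' ⟶ A) [Mono j'] (h : B ⟶ B')
    (hj : h ≫ j' = j) (hJ : ∀ k, InIm (Jmap n k j) (Jmap n k j')) :
    ∀ (k : ℕ) {T : 𝒜} (x : T ⟶ B'), (n ^ k) • x = 0 → InIm j (x ≫ j') := by
  intro k
  induction k with
  | zero =>
    intro T x hx
    rw [pow_zero, one_smul] at hx
    rw [hx, zero_comp]; exact InIm.zero _
  | succ k ih =>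
    intro T x hx
    have h1 : InIm (Jmap n k j') ((n ^ k) • (x ≫ j')) := by
      have : (n ^ k) • (x ≫ j') = torsLift (n ^ (k + 1)) x hx ≫ Jmap n k j' := by
        simp [Jmap, Preadditive.comp_nsmul]
      rw [this]; exact inIm_comp_self _ _
    have h2 : InIm (Jmap n k j) ((n ^ k) • (x ≫ j')) := InIm.trans (hJ k) h1
    obtain ⟨T', π, hπ, y, hy⟩ := (inIm_iff _ _).1 h2
    have hy' : (n ^ k) • (π ≫ x ≫ j') = (n ^ k) • (y ≫ torsι (n ^ (k + 1)) B ≫ j) := by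
      simpa [Jmap, Preadditive.comp_nsmul] using hy
    have hc : (n ^ k) • (π ≫ x - (y ≫ torsι (n ^ (k + 1)) B) ≫ h) = 0 := by
      rw [← cancel_mono j', zero_comp, Preadditive.nsmul_comp, Preadditive.sub_comp, smul_sub]
      simp only [Category.assoc, hj]
      rw [hy', sub_self]
    have h3 := ih _ hc
    apply InIm.of_epi π
    have : π ≫ x ≫ j' = (π ≫ x - (y ≫ torsι (n ^ (k + 1)) B) ≫ h) ≫ j' +
        (y ≫ torsι (n ^ (k + 1)) B) ≫ j := by
      simp only [Preadditive.sub_comp, Category.assoc, hj]; abel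
    rw [this]
    exact h3.add (inIm_comp_self _ _)

lemma le_of_Jmap (hax : Ax P) (n : ℕ) (htorn : ∀ X, P X → ∃ j : ℕ, (n ^ j) • 𝟙 X = 0)
    {B B' A : 𝒜} (j : B ⟶ A) (j' : B' ⟶ A) [Mono j'] (h : B ⟶ B')
    (hj : h ≫ j' = j) (hJ : ∀ k, InIm (Jmap n k j) (Jmap n k j')) : InIm j j' := by
  apply hax.sep
  intro X a hX
  obtain ⟨k, hk⟩ := htorn X hX
  have hka : (n ^ k) • a = 0 := by
    have : (n ^ k) • a = ((n ^ k) • 𝟙 X) ≫ a := by simp
    rw [this, hk, zero_comp]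
  have := le_of_Jmap_core n j j' h hj hJ k a hka
  simpa [InIm] using this

/-- **Theorem III**: descending chains of `n`-cofinite subobjects stabilize, when all objects of
`P` are `n`-power torsion. -/
theorem chain_stab (hax : Ax P) (n : ℕ) (htorn : ∀ X, P X → ∃ j : ℕ, (n ^ j) • 𝟙 X = 0)
    (A : 𝒜) (S : ℕ → Subobject A) (hS : Antitone S)
    (hcof : ∀ m, Cof P n ((S m : Subobject A) : 𝒜)) :
    ∃ N, ∀ m, N ≤ m → S m = S N := by
  let J : ℕ → ℕ → Subobject A := fun m k => imageSubobject (Jmap n k (S m).arrow)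
  have hJP : ∀ m k, P ((J m k : Subobject A) : 𝒜) := fun m k =>
    P_imageSubobject_Jmap hax n k _ (hcof m _) (hcof m _)
  have hJk : ∀ m {k k'}, k ≤ k' → J m k' ≤ J m k := fun m k k' h =>
    (imageSubobject_le_iff _ _).2 (Jmap_le n _ h)
  have hJm : ∀ k {m m'}, m ≤ m' → J m' k ≤ J m k := by
    intro k m m' h
    refine (imageSubobject_le_iff _ _).2 ?_
    have := Jmap_comp n k (Subobject.ofLE _ _ (hS h)) (S m).arrow
    rwa [Subobject.ofLE_arrow] at this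
  obtain ⟨U, ⟨m₁, k₁, rfl⟩, hmin⟩ := hax.dcc A {U | ∃ m k, U = J m k} ⟨_, 0, 0, rfl⟩
    (by rintro _ ⟨m, k, rfl⟩; exact hJP m k)
  have hμ : ∀ k, ∃ μ, ∀ m, μ ≤ m → J m k = J μ k := by
    intro k
    obtain ⟨U, ⟨μ, rfl⟩, hU⟩ := hax.dcc A (Set.range fun m => J m k) ⟨_, 0, rfl⟩
      (by rintro _ ⟨m, rfl⟩; exact hJP m k)
    exact ⟨μ, fun m hm => hU _ ⟨m, rfl⟩ (hJm k hm)⟩
  choose μ hμ using hμ
  let m₀ := max m₁ ((Finset.range k₁).sup μ)
  refine ⟨m₀, fun m hm => ?_⟩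
  have hJeq : ∀ k, J m₀ k = J m k := by
    intro k
    by_cases hk : k < k₁
    · have h1 : μ k ≤ m₀ :=
        le_trans (Finset.le_sup (f := μ) (Finset.mem_range.2 hk)) (le_max_right _ _)
      rw [hμ k m₀ h1, hμ k m (h1.trans hm)]
    · push_neg at hk
      have h1 : m₁ ≤ m₀ := le_max_left _ _
      rw [hmin (J m₀ k) ⟨_, _, rfl⟩ ((hJk m₀ hk).trans (hJm k₁ h1)),
        hmin (J m k) ⟨_, _, rfl⟩ ((hJk m hk).trans (hJm k₁ (h1.trans hm)))]
  apply le_antisymm (hS hm)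
  rw [subobject_le_iff]
  exact le_of_Jmap hax n htorn (S m).arrow (S m₀).arrow (Subobject.ofLE _ _ (hS hm))
    (Subobject.ofLE_arrow _) (fun k => (imageSubobject_le_iff _ _).1 (hJeq k).le)

/-! ### Divisible parts -/

lemma epi_pow_smul {n : ℕ} {D : 𝒜} (h : Epi (n • 𝟙 D)) (N : ℕ) : Epi ((n ^ N) • 𝟙 D) := by
  induction N with
  | zero => rw [pow_zero, one_smul]; infer_instance
  | succ N ih =>
    have : (n ^ (N + 1)) • 𝟙 D = ((n ^ N) • 𝟙 D) ≫ (n • 𝟙 D) := by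
      simp only [Preadditive.comp_nsmul, Preadditive.nsmul_comp, Category.comp_id]
      rw [← mul_smul, ← pow_succ']
    rw [this]; exact epi_comp _ _

lemma epi_smul_imageSubobject (n N : ℕ) (A : 𝒜)
    (hN : InIm ((n ^ (N + 1)) • 𝟙 A) ((n ^ N) • 𝟙 A)) :
    Epi (n • 𝟙 ((imageSubobject ((n ^ N) • 𝟙 A) : Subobject A) : 𝒜)) := by
  rw [epi_iff_surjective_up_to_refinements]
  intro T x
  have h1 : InIm ((n ^ N) • 𝟙 A) (x ≫ (imageSubobject ((n ^ N) • 𝟙 A)).arrow) :=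
    (imageSubobject_factors_iff _ _).1 (Subobject.factors_comp_arrow x)
  obtain ⟨T', π, hπ, b, hb⟩ := (inIm_iff _ _).1 (InIm.trans hN h1)
  refine ⟨T', π, hπ, b ≫ factorThruImageSubobject ((n ^ N) • 𝟙 A), ?_⟩
  rw [← cancel_mono (imageSubobject ((n ^ N) • 𝟙 A)).arrow]
  simp only [Category.assoc, hb, Preadditive.comp_nsmul, Preadditive.nsmul_comp, Category.id_comp,
    Category.comp_id, imageSubobject_arrow_comp]
  rw [← mul_smul, ← pow_succ']

lemma le_imageSubobject_of_epi (n : ℕ) {A : 𝒜} (D' : Subobject A)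
    (h : Epi (n • 𝟙 (D' : 𝒜))) (N : ℕ) : D' ≤ imageSubobject ((n ^ N) • 𝟙 A) := by
  rw [subobject_le_imageSubobject_iff, inIm_iff]
  exact ⟨_, (n ^ N) • 𝟙 (D' : 𝒜), epi_pow_smul h N, D'.arrow, by simp⟩

lemma imageSubobject_arrow_comp_eq_zero (k : ℕ) {A Q : 𝒜} (q : A ⟶ Q) (hQ : k • 𝟙 Q = 0) :
    (imageSubobject (k • 𝟙 A)).arrow ≫ q = 0 := by
  rw [← cancel_epi (factorThruImageSubobject (k • 𝟙 A)), imageSubobject_arrow_comp_assoc,
    comp_zero]
  have : (k • 𝟙 A) ≫ q = q ≫ (k • 𝟙 Q) := by simp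
  rw [this, hQ, comp_zero]

end Groth.Agent.Helper6.IndCof
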