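import Groth.Agent.Lib.Helper6.IndCof.Abs5

set_option linter.unusedSectionVars false
set_option linter.unusedVariables false
set_option linter.unusedSimpArgs false
set_option autoImplicit false
set_option linter.style.haveILetI false
set_option maxHeartbeats 400000

/-!
# Abstract theory of objects of cofinite type, part 6: divisibility
-/

noncomputable section

namespace Groth.Agent.Helper6.IndCof

open CategoryTheory Limits

universe v u

variable {𝒜 : Type u} [Category.{v} 𝒜] [Abelian 𝒜] {P : ObjectProperty 𝒜}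

lemma smul_id_comp_smul_id (a b : ℕ) (D : 𝒜) : (a * b) • 𝟙 D = (a • 𝟙 D) ≫ (b • 𝟙 D) := by
  simp only [Preadditive.comp_nsmul, Preadditive.nsmul_comp, Category.comp_id]
  rw [← mul_smul, mul_comm]

lemma epi_smul_of_dvd {D : 𝒜} {q n : ℕ} (hq : q ∣ n) (h : Epi (n • 𝟙 D)) : Epi (q • 𝟙 D) := by
  obtain ⟨c, rfl⟩ := hq
  rw [mul_comm, smul_id_comp_smul_id] at h
  exact epi_of_epi (c • 𝟙 D) (q • 𝟙 D)

lemma divisible_of_primes {D : 𝒜} (h : ∀ q : ℕ, q.Prime → Epi (q • 𝟙 D)) :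
    ∀ k : ℕ, 0 < k → Epi (k • 𝟙 D) := by
  intro k
  induction k using Nat.recOnMul with
  | zero => intro h0; exact absurd h0 (lt_irrefl 0)
  | one => intro _; rw [one_smul]; infer_instance
  | prime p hp => intro _; exact h p hp
  | mul a b ha hb =>
    intro hab
    have ha' := ha (Nat.pos_of_ne_zero (by rintro rfl; simp at hab))
    have hb' := hb (Nat.pos_of_ne_zero (by rintro rfl; simp at hab))
    rw [smul_id_comp_smul_id]
    exact epi_comp _ _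

/-- `k` acts surjectively on `k₀ A` when `k₀ A = k₀ k A`. -/
lemma epi_smul_imageSubobject' (k k₀ : ℕ) (A : 𝒜)
    (h : InIm ((k₀ * k) • 𝟙 A) (k₀ • 𝟙 A)) :
    Epi (k • 𝟙 ((imageSubobject (k₀ • 𝟙 A) : Subobject A) : 𝒜)) := by
  rw [epi_iff_surjective_up_to_refinements]
  intro T x
  have h1 : InIm (k₀ • 𝟙 A) (x ≫ (imageSubobject (k₀ • 𝟙 A)).arrow) :=
    (imageSubobject_factors_iff _ _).1 (Subobject.factors_comp_arrow x)
  obtain ⟨T', π, hπ, b, hb⟩ := (inIm_iff _ _).1 (InIm.trans h h1)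
  refine ⟨T', π, hπ, b ≫ factorThruImageSubobject (k₀ • 𝟙 A), ?_⟩
  rw [← cancel_mono (imageSubobject (k₀ • 𝟙 A)).arrow]
  simp only [Category.assoc, hb, Preadditive.comp_nsmul, Preadditive.nsmul_comp, Category.id_comp,
    Category.comp_id, imageSubobject_arrow_comp]
  rw [← mul_smul, mul_comm]

/-- if `q` acts surjectively on `A` it acts surjectively on `k A`. -/
lemma epi_smul_imageSubobject_of_epi (q k : ℕ) (A : 𝒜) (h : Epi (q • 𝟙 A)) :
    Epi (q • 𝟙 ((imageSubobject (k • 𝟙 A) : Subobject A) : 𝒜)) := by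
  rw [epi_iff_surjective_up_to_refinements]
  intro T x
  have h1 : InIm (k • 𝟙 A) (x ≫ (imageSubobject (k • 𝟙 A)).arrow) :=
    (imageSubobject_factors_iff _ _).1 (Subobject.factors_comp_arrow x)
  obtain ⟨T₁, π₁, hπ₁, a, ha⟩ := (inIm_iff _ _).1 h1
  obtain ⟨T₂, π₂, hπ₂, a', ha'⟩ := surjective_up_to_refinements_of_epi (q • 𝟙 A) a
  refine ⟨T₂, π₂ ≫ π₁, epi_comp _ _, a' ≫ factorThruImageSubobject (k • 𝟙 A), ?_⟩
  rw [← cancel_mono (imageSubobject (k • 𝟙 A)).arrow]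
  simp only [Category.assoc, ha, Preadditive.comp_nsmul, Preadditive.nsmul_comp, Category.id_comp,
    Category.comp_id, imageSubobject_arrow_comp]
  have ha'' : π₂ ≫ a = q • a' := by simpa using ha'
  rw [ha'', smul_comm]

/-- `cokernel (image f ↪ B) ≅ cokernel f`. -/
def cokernelImageSubobjectArrowIso {A B : 𝒜} (f : A ⟶ B) :
    cokernel (imageSubobject f).arrow ≅ cokernel f :=
  (cokernelEpiComp (factorThruImageSubobject f) (imageSubobject f).arrow).symm ≪≫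
    cokernel.mapIso _ _ (Iso.refl _) (Iso.refl _) (by simp)

lemma inIm_arrow_of_cokernel_tor {A : 𝒜} (B' : Subobject A) (k₀ : ℕ)
    (hk₀ : k₀ • 𝟙 (cokernel B'.arrow) = 0) : InIm B'.arrow (k₀ • 𝟙 A) := by
  show (k₀ • 𝟙 A) ≫ cokernel.π B'.arrow = 0
  have : (k₀ • 𝟙 A) ≫ cokernel.π B'.arrow = cokernel.π B'.arrow ≫ (k₀ • 𝟙 _) := by simp
  rw [this, hk₀, comp_zero]

lemma inIm_smul_of_epi {A : 𝒜} (B' : Subobject A) (k : ℕ) (h : Epi (k • 𝟙 (B' : 𝒜))) :
    InIm (k • 𝟙 A) B'.arrow := by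
  rw [inIm_iff]
  exact ⟨_, k • 𝟙 (B' : 𝒜), h, B'.arrow, by simp⟩

/-- (ii) ⇒ (i) -/
lemma imageSubobject_eq_of_divisible {A : 𝒜} (B' : Subobject A)
    (hdiv : ∀ k : ℕ, 0 < k → Epi (k • 𝟙 (B' : 𝒜))) (k₀ : ℕ) (hk₀ : 0 < k₀)
    (hk₀' : k₀ • 𝟙 (cokernel B'.arrow) = 0) (t : ℕ) (ht : 0 < t) :
    imageSubobject ((k₀ * t) • 𝟙 A) = imageSubobject (k₀ • 𝟙 A) := by
  rw [imageSubobject_eq_iff]
  constructor
  · rw [mul_comm, smul_id_comp_smul_id]; exact inIm_comp_self _ _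
  · exact InIm.trans (inIm_smul_of_epi B' _ (hdiv _ (Nat.mul_pos hk₀ ht)))
      (inIm_arrow_of_cokernel_tor B' k₀ hk₀')

/-- (ii) ⇒ (iii) -/
lemma epi_smul_of_coprime {A : 𝒜} (B' : Subobject A) (p k₀ : ℕ) (hcop : Nat.Coprime p k₀)
    (hdiv : Epi (p • 𝟙 (B' : 𝒜))) (hk₀ : k₀ • 𝟙 (cokernel B'.arrow) = 0) : Epi (p • 𝟙 A) := by
  obtain ⟨u, v, huv⟩ := (Nat.isCoprime_iff_coprime.2 hcop)
  rw [epi_iff_surjective_up_to_refinements]
  intro T a
  have h1 : InIm B'.arrow (k₀ • a) := by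
    have : k₀ • a = a ≫ (k₀ • 𝟙 A) := by simp
    rw [this]; exact (inIm_arrow_of_cokernel_tor B' k₀ hk₀).comp a
  obtain ⟨T₁, π₁, hπ₁, b, hb⟩ := (inIm_iff _ _).1 h1
  obtain ⟨T₂, π₂, hπ₂, b₁, hb₁⟩ := surjective_up_to_refinements_of_epi (p • 𝟙 (B' : 𝒜)) b
  refine ⟨T₂, π₂ ≫ π₁, epi_comp _ _, u • (π₂ ≫ π₁ ≫ a) + v • (b₁ ≫ B'.arrow), ?_⟩
  have h2 : k₀ • (π₂ ≫ π₁ ≫ a) = p • (b₁ ≫ B'.arrow) := by
    have := congrArg (fun z => π₂ ≫ z) hb
    simp only [Preadditive.comp_nsmul] at this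
    rw [this, ← Category.assoc, hb₁]
    simp [Preadditive.comp_nsmul, Preadditive.nsmul_comp]
  have h3 : (π₂ ≫ π₁) ≫ a = (u * (p : ℤ) + v * (k₀ : ℤ)) • (π₂ ≫ π₁ ≫ a) := by
    rw [huv, one_smul, Category.assoc]
  rw [h3, add_smul, mul_smul, mul_smul, natCast_zsmul, natCast_zsmul, h2]
  simp only [Preadditive.comp_nsmul, Category.comp_id, smul_add]
  rw [smul_comm (p : ℕ) u, smul_comm (p : ℕ) v]

/-! ### Least upper bounds of divisible subobjects -/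

lemma lub_image_divisible (k : ℕ) {A : 𝒜} {ι : Type*} (X : ι → 𝒜) (g : ∀ i, X i ⟶ A)
    (D : Subobject A) (hD : IsLUB (Set.range fun i => imageSubobject (g i)) D)
    (h : ∀ i, ∃ i', InIm (k • g i') (g i)) : Epi (k • 𝟙 (D : 𝒜)) := by
  have h1 : D ≤ imageSubobject ((k • 𝟙 (D : 𝒜)) ≫ D.arrow) := by
    apply hD.2
    rintro _ ⟨i, rfl⟩
    rw [imageSubobject_le_iff]
    obtain ⟨i', hi'⟩ := h i
    refine InIm.trans ?_ hi'
    have hle : imageSubobject (g i') ≤ D := hD.1 ⟨i', rfl⟩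
    rw [imageSubobject_le_subobject_iff, ← subobject_factors_iff] at hle
    have : k • g i' = D.factorThru (g i') hle ≫ (k • 𝟙 (D : 𝒜)) ≫ D.arrow := by
      simp [Preadditive.comp_nsmul, Preadditive.nsmul_comp]
    rw [this]; exact inIm_comp_self _ _
  rw [subobject_le_imageSubobject_iff, inIm_iff] at h1
  obtain ⟨T', π, hπ, y, hy⟩ := h1
  have : π = y ≫ (k • 𝟙 (D : 𝒜)) := by
    rw [← cancel_mono D.arrow, Category.assoc, hy]
  exact epi_of_epi_fac this.symm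

lemma lub_divisible (k : ℕ) {A : 𝒜} (s : Set (Subobject A))
    (hs : ∀ D' ∈ s, Epi (k • 𝟙 (D' : 𝒜))) (D : Subobject A) (hD : IsLUB s D) :
    Epi (k • 𝟙 (D : 𝒜)) := by
  refine lub_image_divisible k (fun i : s => ((i : Subobject A) : 𝒜)) (fun i => (i : Subobject A).arrow)
    D ?_ ?_
  · convert hD using 1
    ext U
    constructor
    · rintro ⟨i, rfl⟩
      show imageSubobject (i : Subobject A).arrow ∈ s
      rw [imageSubobject_mono, Subobject.mk_arrow]; exact i.2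
    · intro hU
      refine ⟨⟨U, hU⟩, ?_⟩
      show imageSubobject U.arrow = U
      rw [imageSubobject_mono, Subobject.mk_arrow]
  · intro i
    refine ⟨i, ?_⟩
    rw [inIm_iff]
    exact ⟨_, k • 𝟙 ((i : Subobject A) : 𝒜), hs _ i.2, 𝟙 _, by simp⟩

end Groth.Agent.Helper6.IndCof
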