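import Groth.Agent.Lib.Helper6.IndCof.Abs6

set_option linter.unusedSectionVars false
set_option linter.unusedVariables false
set_option linter.unusedSimpArgs false
set_option autoImplicit false
set_option linter.style.haveILetI false
set_option maxHeartbeats 800000

/-!
# Abstract theory of objects of cofinite type, part 7: divisibly ML objects, largest divisible
subobject
-/

noncomputable section

namespace Groth.Agent.Helper6.IndCof

open CategoryTheory Limits

universe v u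

variable {𝒜 : Type u} [Category.{v} 𝒜] [Abelian 𝒜] {P : ObjectProperty 𝒜}

theorem divML_iff (hax : Ax P) (A : 𝒜) (hA : ∀ n : ℕ, 0 < n → P (tors n A)) :
    ((∀ n : ℕ, 0 < n → ∃ m : ℕ, 0 < m ∧ n ∣ m ∧ ∀ m' : ℕ, 0 < m' → m ∣ m' →
        imageSubobject ((m' / n) • 𝟙 A) = imageSubobject ((m / n) • 𝟙 A)) ↔
      ∃ B' : Subobject A, (∀ k : ℕ, 0 < k → Epi (k • 𝟙 (B' : 𝒜))) ∧ P (cokernel B'.arrow)) ∧
    ((∃ B' : Subobject A, (∀ k : ℕ, 0 < k → Epi (k • 𝟙 (B' : 𝒜))) ∧ P (cokernel B'.arrow)) ↔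
      {p : ℕ | p.Prime ∧ ¬ Epi (p • 𝟙 A)}.Finite) := by
  refine ⟨⟨?_, ?_⟩, ⟨?_, ?_⟩⟩
  · intro h
    obtain ⟨m, hm, -, hm'⟩ := h 1 one_pos
    simp only [Nat.div_one] at hm'
    refine ⟨imageSubobject (m • 𝟙 A), fun k hk => ?_, ?_⟩
    · apply epi_smul_imageSubobject' k m A
      exact (imageSubobject_le_iff _ _).1 (hm' (m * k) (Nat.mul_pos hm hk) (dvd_mul_right _ _)).ge
    · exact hax.iso (cokernelImageSubobjectArrowIso _).symm
        (coker_mem hax m A (fun j => hA (m ^ j) (pow_pos hm j)))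
  · rintro ⟨B', hdiv, hP⟩
    obtain ⟨k₀, hk₀, hk₀'⟩ := hax.tor _ hP
    intro n hn
    refine ⟨n * k₀, Nat.mul_pos hn hk₀, dvd_mul_right _ _, ?_⟩
    rintro m' hm' ⟨t, rfl⟩
    have ht : 0 < t := Nat.pos_of_ne_zero (by rintro rfl; simp at hm')
    rw [mul_assoc, Nat.mul_div_cancel_left _ hn, Nat.mul_div_cancel_left _ hn]
    exact imageSubobject_eq_of_divisible B' hdiv k₀ hk₀ hk₀' t ht
  · rintro ⟨B', hdiv, hP⟩
    obtain ⟨k₀, hk₀, hk₀'⟩ := hax.tor _ hP
    apply Set.Finite.subset (Nat.divisors k₀).finite_toSet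
    rintro p ⟨hp, hnepi⟩
    rw [Finset.mem_coe, Nat.mem_divisors]
    refine ⟨?_, hk₀.ne'⟩
    by_contra hnd
    exact hnepi (epi_smul_of_coprime B' p k₀ ((Nat.Prime.coprime_iff_not_dvd hp).2 hnd)
      (hdiv p hp.pos) hk₀')
  · intro hfin
    let n : ℕ := ∏ p ∈ hfin.toFinset, p
    have hn : 0 < n := Finset.prod_pos (fun p hp => by
      rw [Set.Finite.mem_toFinset] at hp; exact hp.1.pos)
    have hcof : Cof P n A := fun m => hA _ (pow_pos hn m)
    obtain ⟨N, hN⟩ := exists_stab hax n A hcof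
    refine ⟨imageSubobject ((n ^ N) • 𝟙 A), ?_, ?_⟩
    · apply divisible_of_primes
      intro q hq
      by_cases hqe : Epi (q • 𝟙 A)
      · exact epi_smul_imageSubobject_of_epi q _ A hqe
      · have hqn : q ∣ n := Finset.dvd_prod_of_mem _ (by
          rw [Set.Finite.mem_toFinset]; exact ⟨hq, hqe⟩)
        exact epi_smul_of_dvd hqn (epi_smul_imageSubobject n N A (hN N le_rfl))
    · exact hax.iso (cokernelImageSubobjectArrowIso _).symm
        (coker_mem hax (n ^ N) A (hcof.pow N))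

theorem exists_largest_divisible (hax : Ax P) (A : 𝒜)
    (hsup : ∀ s : Set (Subobject A), ∃ D, IsLUB s D) (hA : ∀ n : ℕ, 0 < n → P (tors n A)) :
    ∃ D : Subobject A, (∀ k : ℕ, 0 < k → Epi (k • 𝟙 (D : 𝒜))) ∧
      (∀ D' : Subobject A, (∀ k : ℕ, 0 < k → Epi (k • 𝟙 (D' : 𝒜))) → D' ≤ D) ∧
      (∀ n : ℕ, 0 < n → P (tors n (D : 𝒜))) ∧
      (∀ n : ℕ, 0 < n → P (tors n (cokernel D.arrow))) := by
  obtain ⟨D, hD⟩ := hsup {D' | ∀ k : ℕ, 0 < k → Epi (k • 𝟙 (D' : 𝒜))}
  have hdiv : ∀ k : ℕ, 0 < k → Epi (k • 𝟙 (D : 𝒜)) := fun k hk =>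
    lub_divisible k {D' : Subobject A | ∀ k : ℕ, 0 < k → Epi (k • 𝟙 (D' : 𝒜))}
      (fun D' hD' => hD' k hk) D hD
  have hmax : ∀ D' : Subobject A, (∀ k : ℕ, 0 < k → Epi (k • 𝟙 (D' : 𝒜))) → D' ≤ D :=
    fun D' h => hD.1 h
  have htors : ∀ n : ℕ, 0 < n → P (tors n (D : 𝒜)) := by
    intro n hn
    have hcof : Cof P n A := fun m => hA _ (pow_pos hn m)
    obtain ⟨N, hN⟩ := exists_stab hax n A hcof
    obtain ⟨Dn, hDn⟩ : ∃ Dn : Subobject A, Dn = imageSubobject ((n ^ N) • 𝟙 A) := ⟨_, rfl⟩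
    have hDn_div : Epi (n • 𝟙 (Dn : 𝒜)) := by
      rw [hDn]; exact epi_smul_imageSubobject n N A (hN N le_rfl)
    have hDn_cof : Cof P n (Dn : 𝒜) := by
      rw [hDn]; exact cof_imageSubobject hax n _ hcof hcof
    have hDDn : D ≤ Dn := by
      rw [hDn]; exact le_imageSubobject_of_epi n D (hdiv n hn) N
    let g : ∀ m : ℕ, tors (n ^ m) (Dn : 𝒜) ⟶ A := fun m => torsι (n ^ m) (Dn : 𝒜) ≫ Dn.arrow
    obtain ⟨E, hE⟩ := hsup (Set.range fun m => imageSubobject (g m))
    have hEn : Epi (n • 𝟙 (E : 𝒜)) := by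
      refine lub_image_divisible n _ g E hE (fun m => ⟨m + 1, ?_⟩)
      rw [inIm_iff]
      obtain ⟨T', π, hπ, y, hy⟩ :=
        surjective_up_to_refinements_of_epi (n • 𝟙 (Dn : 𝒜)) (torsι (n ^ m) (Dn : 𝒜))
      have hy' : π ≫ torsι (n ^ m) (Dn : 𝒜) = n • y := by simpa using hy
      have hy0 : (n ^ (m + 1)) • y = 0 := by
        rw [pow_succ, mul_smul, ← hy', smul_comp_torsι]
      refine ⟨T', π, hπ, torsLift _ y hy0, ?_⟩
      simp only [g, Preadditive.comp_nsmul, torsLift_ι_assoc]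
      rw [← Category.assoc, hy', Preadditive.nsmul_comp]
    have hEq : ∀ q : ℕ, q.Prime → Epi (q • 𝟙 (E : 𝒜)) := by
      intro q hq
      by_cases hqn : q ∣ n
      · exact epi_smul_of_dvd hqn hEn
      · refine lub_image_divisible q _ g E hE (fun m => ⟨m, ?_⟩)
        have hcop : Nat.Coprime q (n ^ m) :=
          Nat.Coprime.pow_right m ((Nat.Prime.coprime_iff_not_dvd hq).2 hqn)
        obtain ⟨u, v, huv⟩ := Nat.isCoprime_iff_coprime.2 hcop
        have h0 : (n ^ m) • g m = 0 := by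
          simp only [g]; rw [← Preadditive.nsmul_comp, smul_torsι, zero_comp]
        have : g m = (u • 𝟙 _) ≫ (q • g m) := by
          have h3 : g m = (u * (q : ℤ) + v * ((n ^ m : ℕ) : ℤ)) • g m := by
            rw [huv, one_smul]
          conv_lhs => rw [h3, add_smul, mul_smul, mul_smul, natCast_zsmul, natCast_zsmul, h0,
            smul_zero, add_zero]
          simp only [Preadditive.zsmul_comp, Category.id_comp]
        have h4 : InIm (q • g m) ((u • 𝟙 _) ≫ (q • g m)) := inIm_comp_self _ _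
        rwa [← this] at h4
    have hED : E ≤ D := hmax E (divisible_of_primes hEq)
    have hG1 : imageSubobject (torsι n (Dn : 𝒜) ≫ Dn.arrow) ≤ D := by
      have := (hE.1 ⟨1, rfl⟩ : imageSubobject (g 1) ≤ E).trans hED
      have key : ∀ k : ℕ, k = n →
          imageSubobject (torsι k (Dn : 𝒜) ≫ Dn.arrow) ≤ D →
          imageSubobject (torsι n (Dn : 𝒜) ≫ Dn.arrow) ≤ D := by
        rintro k rfl h; exact h
      exact key (n ^ 1) (pow_one n) this
    rw [imageSubobject_le_subobject_iff, ← subobject_factors_iff] at hG1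
    let c := D.factorThru _ hG1
    have hc : c ≫ D.arrow = torsι n (Dn : 𝒜) ≫ Dn.arrow := Subobject.factorThru_arrow _ _ _
    have hc0 : n • c = 0 := by
      rw [← cancel_mono D.arrow, Preadditive.nsmul_comp, hc, ← Preadditive.nsmul_comp, smul_torsι,
        zero_comp, zero_comp]
    let e : tors n (D : 𝒜) ≅ tors n (Dn : 𝒜) :=
      { hom := torsMap n (Subobject.ofLE D Dn hDDn)
        inv := torsLift n c hc0
        hom_inv_id := by
          rw [← cancel_mono (torsι n (D : 𝒜)), ← cancel_mono D.arrow]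
          simp [hc]
        inv_hom_id := by
          rw [← cancel_mono (torsι n (Dn : 𝒜)), ← cancel_mono Dn.arrow]
          simp [hc] }
    exact hax.iso e.symm hDn_cof.one
  refine ⟨D, hdiv, hmax, htors, fun n hn => ?_⟩
  have hcofD : Cof P n (D : 𝒜) := fun m => htors _ (pow_pos hn m)
  have hcofA : Cof P n A := fun m => hA _ (pow_pos hn m)
  exact (cof_coker_of_mono hax n D.arrow hcofD hcofA).one

end Groth.Agent.Helper6.IndCof
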