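import Mathlib

set_option linter.unusedSectionVars false
set_option linter.unusedVariables false
set_option linter.unusedSimpArgs false
set_option autoImplicit false
set_option linter.style.haveILetI false
set_option maxHeartbeats 400000

/-!
# Generalized elements in abelian categories: membership in images, torsion kernels
-/

noncomputable section

namespace Groth.Agent.Helper6.IndCof

open CategoryTheory Limits

universe v u

variable {𝒜 : Type u} [Category.{v} 𝒜] [Abelian 𝒜]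

/-- The generalized element `x` lies in the image of `g`. -/
def InIm {X A T : 𝒜} (g : X ⟶ A) (x : T ⟶ A) : Prop := x ≫ cokernel.π g = 0

lemma inIm_iff {X A T : 𝒜} (g : X ⟶ A) (x : T ⟶ A) :
    InIm g x ↔ ∃ (T' : 𝒜) (π : T' ⟶ T) (_ : Epi π) (y : T' ⟶ X), π ≫ x = y ≫ g :=
  CokernelCofork.IsColimit.comp_π_eq_zero_iff_up_to_refinements (cokernelIsCokernel g) x

lemma InIm.zero {X A T : 𝒜} (g : X ⟶ A) : InIm g (0 : T ⟶ A) := by simp [InIm]

lemma InIm.add {X A T : 𝒜} {g : X ⟶ A} {x y : T ⟶ A} (hx : InIm g x) (hy : InIm g y) :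
    InIm g (x + y) := by
  simp only [InIm] at *; simp [hx, hy]

lemma InIm.sub {X A T : 𝒜} {g : X ⟶ A} {x y : T ⟶ A} (hx : InIm g x) (hy : InIm g y) :
    InIm g (x - y) := by
  simp only [InIm] at *; simp [hx, hy]

lemma InIm.neg {X A T : 𝒜} {g : X ⟶ A} {x : T ⟶ A} (hx : InIm g x) : InIm g (-x) := by
  simp only [InIm] at *; simp [hx]

lemma InIm.nsmul {X A T : 𝒜} {g : X ⟶ A} {x : T ⟶ A} (hx : InIm g x) (k : ℕ) :
    InIm g (k • x) := by
  simp only [InIm] at *; simp [hx]

lemma InIm.zsmul {X A T : 𝒜} {g : X ⟶ A} {x : T ⟶ A} (hx : InIm g x) (k : ℤ) :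
    InIm g (k • x) := by
  simp only [InIm] at *; simp [hx]

lemma InIm.comp {X A T T' : 𝒜} {g : X ⟶ A} {x : T ⟶ A} (hx : InIm g x) (h : T' ⟶ T) :
    InIm g (h ≫ x) := by
  simp only [InIm] at *; simp [hx]

lemma InIm.of_epi {X A T T' : 𝒜} {g : X ⟶ A} {x : T ⟶ A} (π : T' ⟶ T) [Epi π]
    (hx : InIm g (π ≫ x)) : InIm g x := by
  simp only [InIm, Category.assoc] at *
  exact (cancel_epi π).1 (by simpa using hx)

lemma inIm_comp_self {X A T : 𝒜} (g : X ⟶ A) (y : T ⟶ X) : InIm g (y ≫ g) := by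
  simp [InIm]

lemma inIm_self {X A : 𝒜} (g : X ⟶ A) : InIm g g := by
  simp [InIm]

lemma InIm.trans {X Y A T : 𝒜} {g : X ⟶ A} {g' : Y ⟶ A} (h : InIm g' g) {x : T ⟶ A}
    (hx : InIm g x) : InIm g' x := by
  obtain ⟨T', π, hπ, y, hy⟩ := (inIm_iff g x).1 hx
  apply InIm.of_epi π
  rw [hy]
  exact h.comp y

lemma imageSubobject_eq_kernelSubobject {X A : 𝒜} (g : X ⟶ A) :
    imageSubobject g = kernelSubobject (cokernel.π g) :=
  (ShortComplex.exact_iff_image_eq_kernel (ShortComplex.mk g (cokernel.π g) (by simp))).1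
    (ShortComplex.exact_cokernel g)

lemma imageSubobject_factors_iff {X A T : 𝒜} (g : X ⟶ A) (x : T ⟶ A) :
    (imageSubobject g).Factors x ↔ InIm g x := by
  rw [imageSubobject_eq_kernelSubobject, kernelSubobject_factors_iff]; rfl

lemma imageSubobject_le_iff {X Y A : 𝒜} (f : X ⟶ A) (g : Y ⟶ A) :
    imageSubobject f ≤ imageSubobject g ↔ InIm g f := by
  constructor
  · intro h
    rw [← imageSubobject_factors_iff]
    exact Subobject.factors_of_le _ h ((imageSubobject_factors_iff f f).2 (inIm_self f))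
  · intro h
    rw [← imageSubobject_factors_iff] at h
    exact imageSubobject_le f ((imageSubobject g).factorThru f h) (by simp)

lemma imageSubobject_eq_iff {X Y A : 𝒜} (f : X ⟶ A) (g : Y ⟶ A) :
    imageSubobject f = imageSubobject g ↔ InIm g f ∧ InIm f g := by
  rw [le_antisymm_iff, imageSubobject_le_iff, imageSubobject_le_iff]

lemma subobject_factors_iff {A T : 𝒜} (S : Subobject A) (x : T ⟶ A) :
    S.Factors x ↔ InIm S.arrow x := by
  rw [← imageSubobject_factors_iff, imageSubobject_mono, Subobject.mk_arrow]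

lemma subobject_le_iff {A : 𝒜} (S S' : Subobject A) : S ≤ S' ↔ InIm S'.arrow S.arrow := by
  rw [← subobject_factors_iff]
  exact ⟨fun h => Subobject.factors_of_le _ h (Subobject.factors_self S), Subobject.le_of_factors⟩

lemma subobject_le_imageSubobject_iff {A X : 𝒜} (S : Subobject A) (g : X ⟶ A) :
    S ≤ imageSubobject g ↔ InIm g S.arrow := by
  rw [← imageSubobject_factors_iff]
  exact ⟨fun h => Subobject.factors_of_le _ h (Subobject.factors_self S), Subobject.le_of_factors⟩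

lemma imageSubobject_le_subobject_iff {A X : 𝒜} (S : Subobject A) (g : X ⟶ A) :
    imageSubobject g ≤ S ↔ InIm S.arrow g := by
  rw [← subobject_factors_iff]
  constructor
  · intro h
    exact Subobject.factors_of_le _ h ((imageSubobject_factors_iff g g).2 (inIm_self g))
  · intro h
    exact imageSubobject_le g (S.factorThru g h) (by simp)

lemma inIm_epi_comp {X X' A T : 𝒜} (e : X' ⟶ X) [Epi e] (g : X ⟶ A) (x : T ⟶ A) :
    InIm (e ≫ g) x ↔ InIm g x := by
  constructor
  · intro h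
    exact InIm.trans (inIm_comp_self g e) h
  · intro h
    refine InIm.trans ?_ h
    rw [inIm_iff]
    exact ⟨_, e, inferInstance, 𝟙 _, by simp⟩

lemma inIm_of_mono_comp {X A A' T : 𝒜} (g : X ⟶ A) (m : A ⟶ A') [Mono m] (x : T ⟶ A)
    (h : InIm (g ≫ m) (x ≫ m)) : InIm g x := by
  obtain ⟨T', π, hπ, y, hy⟩ := (inIm_iff _ _).1 h
  rw [inIm_iff]
  refine ⟨T', π, hπ, y, ?_⟩
  rw [← cancel_mono m]; simpa using hy

/-! ### Torsion kernels -/

/-- The `k`-torsion subobject. -/
abbrev tors (k : ℕ) (A : 𝒜) : 𝒜 := kernel (k • 𝟙 A)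

/-- Inclusion of the `k`-torsion. -/
abbrev torsι (k : ℕ) (A : 𝒜) : tors k A ⟶ A := kernel.ι (k • 𝟙 A)

lemma smul_torsι (k : ℕ) (A : 𝒜) : k • torsι k A = 0 := by
  have := kernel.condition (k • 𝟙 A)
  simpa using this

/-- Lift a `k`-torsion generalized element to the `k`-torsion kernel. -/
def torsLift {T A : 𝒜} (k : ℕ) (x : T ⟶ A) (h : k • x = 0) : T ⟶ tors k A :=
  kernel.lift _ x (by simp [h])

@[reassoc (attr := simp)]
lemma torsLift_ι {T A : 𝒜} (k : ℕ) (x : T ⟶ A) (h : k • x = 0) :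
    torsLift k x h ≫ torsι k A = x := by
  simp [torsLift]

lemma smul_comp_torsι {T A : 𝒜} (k : ℕ) (y : T ⟶ tors k A) : k • (y ≫ torsι k A) = 0 := by
  rw [← Preadditive.comp_nsmul, smul_torsι, comp_zero]

/-- Torsion kernels of isomorphic objects are isomorphic. -/
def torsIso {A B : 𝒜} (e : A ≅ B) (k : ℕ) : tors k A ≅ tors k B :=
  kernel.mapIso _ _ e e (by simp)

/-- number theory: the powers of `n` modulo `k` are eventually periodic. -/
lemma exists_pow_mul_dvd (k n : ℕ) (hk : 0 < k) :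
    ∃ (j : ℕ) (u : ℤ), (k : ℤ) ∣ (n : ℤ) ^ j * (1 - u * n) := by
  haveI : NeZero k := ⟨hk.ne'⟩
  obtain ⟨i, i', hne, heq⟩ :=
    Finite.exists_ne_map_eq_of_infinite (fun i : ℕ => ((n : ZMod k)) ^ i)
  wlog hlt : i < i' generalizing i i'
  · exact this i' i hne.symm heq.symm (lt_of_le_of_ne (not_lt.1 hlt) hne.symm)
  refine ⟨i, (n : ℤ) ^ (i' - i - 1), ?_⟩
  rw [← ZMod.intCast_zmod_eq_zero_iff_dvd]
  push_cast
  have e : i' = i + ((i' - i - 1) + 1) := by omega
  have h2 : ((n : ZMod k)) ^ i' = (n : ZMod k) ^ i * ((n : ZMod k) ^ (i' - i - 1) * n) := by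
    conv_lhs => rw [e, pow_add, pow_succ]
  rw [mul_sub, mul_one, ← h2, heq, sub_self]

lemma zsmul_eq_zero_of_dvd {T A : 𝒜} (a : T ⟶ A) (k : ℕ) (hk : k • a = 0) (z : ℤ)
    (hz : (k : ℤ) ∣ z) : z • a = 0 := by
  obtain ⟨w, rfl⟩ := hz
  rw [mul_comm, mul_smul, natCast_zsmul, hk, smul_zero]

end Groth.Agent.Helper6.IndCof
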