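import Groth.Agent.Lib.Helper6.IndCof.Abs3

set_option linter.unusedSectionVars false
set_option linter.unusedVariables false
set_option linter.unusedSimpArgs false
set_option autoImplicit false
set_option linter.style.haveILetI false
set_option maxHeartbeats 400000

/-!
# The axioms `Ax` hold for the essential image of `C` in `Ind C`
-/

noncomputable section

namespace Groth.Agent.Helper6.IndCof

open CategoryTheory Limits

universe v

variable {C : Type v} [SmallCategory C] [Abelian C]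

instance indYoneda_additive : (Ind.yoneda (C := C)).Additive :=
  Functor.additive_of_preserves_binary_products _

lemma essImage_kernel {T T' : Ind C} (f : T ⟶ T') (hT : (Ind.yoneda (C := C)).essImage T)
    (hT' : (Ind.yoneda (C := C)).essImage T') : (Ind.yoneda (C := C)).essImage (kernel f) := by
  obtain ⟨X, ⟨e⟩⟩ := hT
  obtain ⟨Y, ⟨e'⟩⟩ := hT'
  let g : X ⟶ Y := (Ind.yoneda (C := C)).preimage (e.hom ≫ f ≫ e'.inv)
  have hg : (Ind.yoneda (C := C)).map g = e.hom ≫ f ≫ e'.inv := Functor.map_preimage _ _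
  exact ⟨kernel g, ⟨PreservesKernel.iso (Ind.yoneda (C := C)) g ≪≫
    kernel.mapIso _ _ e e' (by rw [hg]; simp)⟩⟩

lemma essImage_cokernel {T T' : Ind C} (f : T ⟶ T') (hT : (Ind.yoneda (C := C)).essImage T)
    (hT' : (Ind.yoneda (C := C)).essImage T') : (Ind.yoneda (C := C)).essImage (cokernel f) := by
  obtain ⟨X, ⟨e⟩⟩ := hT
  obtain ⟨Y, ⟨e'⟩⟩ := hT'
  let g : X ⟶ Y := (Ind.yoneda (C := C)).preimage (e.hom ≫ f ≫ e'.inv)
  have hg : (Ind.yoneda (C := C)).map g = e.hom ≫ f ≫ e'.inv := Functor.map_preimage _ _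
  exact ⟨cokernel g, ⟨PreservesCokernel.iso (Ind.yoneda (C := C)) g ≪≫
    cokernel.mapIso _ _ e e' (by rw [hg]; simp)⟩⟩

lemma essImage_sep {A Z : Ind C} (f : A ⟶ Z)
    (h : ∀ (X : Ind C) (a : X ⟶ A), (Ind.yoneda (C := C)).essImage X → a ≫ f = 0) : f = 0 := by
  apply Ind.isSeparating_range_yoneda (C := C) f 0
  rintro G ⟨X⟩ a
  rw [comp_zero]
  exact h _ a (Functor.obj_mem_essImage _ _)

lemma essImage_tor (htor : ∀ X : C, ∃ k : ℕ, 0 < k ∧ k • 𝟙 X = 0) (T : Ind C)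
    (hT : (Ind.yoneda (C := C)).essImage T) : ∃ k : ℕ, 0 < k ∧ k • 𝟙 T = 0 := by
  obtain ⟨X, ⟨e⟩⟩ := hT
  obtain ⟨k, hk, hk0⟩ := htor X
  refine ⟨k, hk, ?_⟩
  have h1 : k • 𝟙 ((Ind.yoneda (C := C)).obj X) = 0 := by
    have := congrArg (Ind.yoneda (C := C)).map hk0
    simpa [Functor.map_nsmul] using this
  have : k • 𝟙 T = e.inv ≫ (k • 𝟙 ((Ind.yoneda (C := C)).obj X)) ≫ e.hom := by simp
  rw [this, h1]; simp

lemma essImage_dcc (hart : ∀ X : C, IsArtinianObject X) (A : Ind C) (s : Set (Subobject A))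
    (hs : s.Nonempty) (hP : ∀ T ∈ s, (Ind.yoneda (C := C)).essImage (T : Ind C)) :
    ∃ T ∈ s, ∀ T' ∈ s, T' ≤ T → T' = T := by
  obtain ⟨T₀, hT₀⟩ := hs
  obtain ⟨X₀, ⟨e₀⟩⟩ := hP T₀ hT₀
  let t : Set (Subobject X₀) := {U | ∃ (T : Subobject A) (_ : T ∈ s) (h : T ≤ T₀) (X : C)
    (e : (Ind.yoneda (C := C)).obj X ≅ (T : Ind C)) (m : X ⟶ X₀) (_ : Mono m),
    (Ind.yoneda (C := C)).map m = e.hom ≫ Subobject.ofLE T T₀ h ≫ e₀.inv ∧ U = Subobject.mk m}
  -- every element of `s` below `T₀` gives an element of `t`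
  have key : ∀ (T : Subobject A) (hT : T ∈ s) (h : T ≤ T₀), ∃ (X : C)
      (e : (Ind.yoneda (C := C)).obj X ≅ (T : Ind C)) (m : X ⟶ X₀) (_ : Mono m),
      (Ind.yoneda (C := C)).map m = e.hom ≫ Subobject.ofLE T T₀ h ≫ e₀.inv := by
    intro T hT h
    obtain ⟨X, ⟨e⟩⟩ := hP T hT
    let m : X ⟶ X₀ := (Ind.yoneda (C := C)).preimage (e.hom ≫ Subobject.ofLE T T₀ h ≫ e₀.inv)
    have hm : (Ind.yoneda (C := C)).map m = e.hom ≫ Subobject.ofLE T T₀ h ≫ e₀.inv :=
      Functor.map_preimage _ _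
    haveI : Mono ((Ind.yoneda (C := C)).map m) := by rw [hm]; infer_instance
    exact ⟨X, e, m, (Ind.yoneda (C := C)).mono_of_mono_map inferInstance, hm⟩
  have ht : t.Nonempty := by
    obtain ⟨X, e, m, hm, h⟩ := key T₀ hT₀ le_rfl
    exact ⟨Subobject.mk m, T₀, hT₀, le_rfl, X, e, m, hm, h, rfl⟩
  haveI := hart X₀
  have hwf : WellFounded ((· < ·) : Subobject X₀ → Subobject X₀ → Prop) :=
    (inferInstance : WellFoundedLT (Subobject X₀)).wf
  obtain ⟨U, ⟨T₁, hT₁, h₁, X₁, e₁, m₁, hm₁, hm₁', rfl⟩, hmin⟩ := hwf.has_min t ht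
  refine ⟨T₁, hT₁, fun T' hT' hle => ?_⟩
  obtain ⟨X', e', m', hm', hm''⟩ := key T' hT' (hle.trans h₁)
  -- `mk m' ≤ mk m₁`
  let c : X' ⟶ X₁ := (Ind.yoneda (C := C)).preimage (e'.hom ≫ Subobject.ofLE T' T₁ hle ≫ e₁.inv)
  have hc : c ≫ m₁ = m' := by
    apply (Ind.yoneda (C := C)).map_injective
    rw [Functor.map_comp, Functor.map_preimage, hm₁', hm'']
    simp
  have hle' : Subobject.mk m' ≤ Subobject.mk m₁ := Subobject.mk_le_mk_of_comm c hc
  have hnlt := hmin (Subobject.mk m') ⟨T', hT', hle.trans h₁, X', e', m', hm', hm'', rfl⟩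
  have heq : Subobject.mk m₁ ≤ Subobject.mk m' := by
    by_contra hcon
    exact hnlt (lt_of_le_not_ge hle' hcon)
  -- get the reverse map
  let c' : X₁ ⟶ X' := Subobject.ofMkLEMk m₁ m' heq
  have hc' : c' ≫ m' = m₁ := Subobject.ofMkLEMk_comp heq
  apply le_antisymm hle
  refine Subobject.le_of_comm (e₁.inv ≫ (Ind.yoneda (C := C)).map c' ≫ e'.hom) ?_
  have h3 : (Ind.yoneda (C := C)).map c' ≫ (Ind.yoneda (C := C)).map m' =
      (Ind.yoneda (C := C)).map m₁ := by rw [← Functor.map_comp, hc']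
  rw [hm'', hm₁'] at h3
  have h4 : e₁.inv ≫ (Ind.yoneda (C := C)).map c' ≫ e'.hom ≫ Subobject.ofLE T' T₀ (hle.trans h₁) =
      Subobject.ofLE T₁ T₀ h₁ := by
    have := congrArg (fun z => e₁.inv ≫ z ≫ e₀.hom) h3
    simpa using this
  rw [← Subobject.ofLE_arrow (hle.trans h₁), ← Subobject.ofLE_arrow h₁, ← h4]
  simp

theorem ax_essImage (hart : ∀ X : C, IsArtinianObject X)
    (htor : ∀ X : C, ∃ k : ℕ, 0 < k ∧ k • 𝟙 X = 0) : Ax (Ind.yoneda (C := C)).essImage where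
  iso e h := Functor.essImage.ofIso e h
  ker f h h' := essImage_kernel f h h'
  coker f h h' := essImage_cokernel f h h'
  sep f h := essImage_sep f h
  dcc A s hs hP := essImage_dcc hart A s hs hP
  tor T hT := essImage_tor htor T hT

end Groth.Agent.Helper6.IndCof
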