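import Groth.Agent.Lib.Helper6.IndCof.IndAx
import Groth.Agent.Lib.Helper6.IndCof.Abs5

set_option linter.unusedSectionVars false
set_option linter.unusedVariables false
set_option linter.unusedSimpArgs false
set_option autoImplicit false
set_option linter.style.haveILetI false
set_option maxHeartbeats 400000

/-!
# Torsion in the essential image of `C` in `Ind C`
-/

noncomputable section

namespace Groth.Agent.Helper6.IndCof

open CategoryTheory Limits

universe v

variable {C : Type v} [SmallCategory C] [Abelian C]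

lemma essImage_smul_eq_zero {T : Ind C} {X : C} (e : (Ind.yoneda (C := C)).obj X ≅ T) (k : ℕ)
    (h : k • 𝟙 X = 0) : k • 𝟙 T = 0 := by
  have h1 : k • 𝟙 ((Ind.yoneda (C := C)).obj X) = 0 := by
    have := congrArg (Ind.yoneda (C := C)).map h
    simpa [Functor.map_nsmul] using this
  have : k • 𝟙 T = e.inv ≫ (k • 𝟙 ((Ind.yoneda (C := C)).obj X)) ≫ e.hom := by simp
  rw [this, h1]; simp

lemma essImage_pow_tor (p : ℕ) (htor : ∀ X : C, ∃ n : ℕ, (p ^ n) • 𝟙 X = 0) (T : Ind C)
    (hT : (Ind.yoneda (C := C)).essImage T) : ∃ j : ℕ, (p ^ j) • 𝟙 T = 0 := by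
  obtain ⟨X, ⟨e⟩⟩ := hT
  obtain ⟨j, hj⟩ := htor X
  exact ⟨j, essImage_smul_eq_zero e _ hj⟩

theorem ax_essImage_prime (hart : ∀ X : C, IsArtinianObject X) (p : ℕ) (hp : 0 < p)
    (htor : ∀ X : C, ∃ n : ℕ, (p ^ n) • 𝟙 X = 0) : Ax (Ind.yoneda (C := C)).essImage :=
  ax_essImage hart (fun X => by obtain ⟨k, hk⟩ := htor X; exact ⟨p ^ k, pow_pos hp _, hk⟩)

end Groth.Agent.Helper6.IndCof
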