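import Groth.Agent.Lib.Helper6.IndCof.IndAx2
import Groth.Agent.Lib.Helper6.IndCof.Abs7

set_option linter.unusedSectionVars false
set_option linter.unusedVariables false
set_option linter.unusedSimpArgs false
set_option autoImplicit false
set_option linter.style.haveILetI false
set_option maxHeartbeats 400000

/-!
# Suprema of subobjects in `Ind C`
-/

noncomputable section

namespace Groth.Agent.Helper6.IndCof

open CategoryTheory Limits

universe v

variable {C : Type v} [SmallCategory C] [Abelian C]

lemma ind_exists_isLUB (A : Ind C) (s : Set (Subobject A)) : ∃ D, IsLUB s D :=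
  ⟨sSup s, isLUB_sSup s⟩

end Groth.Agent.Helper6.IndCof
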